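import Cfsg.Agent.Helper9.SchM23.Tab

set_option autoImplicit false
set_option linter.all false
set_option maxRecDepth 1000000
set_option maxHeartbeats 0

namespace Cfsg.Agent.Helper9.SchM23

theorem okR143 : OKR (143 * 1008) 1008 := by decide +kernel
theorem okR144 : OKR (144 * 1008) 1008 := by decide +kernel
theorem okR145 : OKR (145 * 1008) 1008 := by decide +kernel
theorem okR146 : OKR (146 * 1008) 1008 := by decide +kernel
theorem okR147 : OKR (147 * 1008) 1008 := by decide +kernel
theorem okR148 : OKR (148 * 1008) 1008 := by decide +kernel
theorem okR149 : OKR (149 * 1008) 1008 := by decide +kernel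
theorem okR150 : OKR (150 * 1008) 1008 := by decide +kernel
theorem okR151 : OKR (151 * 1008) 1008 := by decide +kernel
theorem okR152 : OKR (152 * 1008) 1008 := by decide +kernel
theorem okR153 : OKR (153 * 1008) 1008 := by decide +kernel

end Cfsg.Agent.Helper9.SchM23
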