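import Cfsg.Agent.Helper9.SchM23.Tab

set_option autoImplicit false
set_option linter.all false
set_option maxRecDepth 1000000
set_option maxHeartbeats 0

namespace Cfsg.Agent.Helper9.SchM23

theorem okR154 : OKR (154 * 1008) 1008 := by decide +kernel
theorem okR155 : OKR (155 * 1008) 1008 := by decide +kernel
theorem okR156 : OKR (156 * 1008) 1008 := by decide +kernel
theorem okR157 : OKR (157 * 1008) 1008 := by decide +kernel
theorem okR158 : OKR (158 * 1008) 1008 := by decide +kernel
theorem okR159 : OKR (159 * 1008) 1008 := by decide +kernel
theorem okR160 : OKR (160 * 1008) 1008 := by decide +kernel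
theorem okR161 : OKR (161 * 1008) 1008 := by decide +kernel
theorem okR162 : OKR (162 * 1008) 1008 := by decide +kernel
theorem okR163 : OKR (163 * 1008) 1008 := by decide +kernel
theorem okR164 : OKR (164 * 1008) 1008 := by decide +kernel

end Cfsg.Agent.Helper9.SchM23
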