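import Cfsg.Agent.Helper9.SchM23.Tab

set_option autoImplicit false
set_option linter.all false
set_option maxRecDepth 1000000
set_option maxHeartbeats 0

namespace Cfsg.Agent.Helper9.SchM23

theorem okR187 : OKR (187 * 1008) 1008 := by decide +kernel
theorem okR188 : OKR (188 * 1008) 1008 := by decide +kernel
theorem okR189 : OKR (189 * 1008) 1008 := by decide +kernel
theorem okR190 : OKR (190 * 1008) 1008 := by decide +kernel
theorem okR191 : OKR (191 * 1008) 1008 := by decide +kernel
theorem okR192 : OKR (192 * 1008) 1008 := by decide +kernel
theorem okR193 : OKR (193 * 1008) 1008 := by decide +kernel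
theorem okR194 : OKR (194 * 1008) 1008 := by decide +kernel
theorem okR195 : OKR (195 * 1008) 1008 := by decide +kernel
theorem okR196 : OKR (196 * 1008) 1008 := by decide +kernel
theorem okR197 : OKR (197 * 1008) 1008 := by decide +kernel

end Cfsg.Agent.Helper9.SchM23
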