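import Cfsg.Agent.Helper9.SchM23.Tab

set_option autoImplicit false
set_option linter.all false
set_option maxRecDepth 1000000
set_option maxHeartbeats 0

namespace Cfsg.Agent.Helper9.SchM23

theorem okR275 : OKR (275 * 1008) 1008 := by decide +kernel
theorem okR276 : OKR (276 * 1008) 1008 := by decide +kernel
theorem okR277 : OKR (277 * 1008) 1008 := by decide +kernel
theorem okR278 : OKR (278 * 1008) 1008 := by decide +kernel
theorem okR279 : OKR (279 * 1008) 1008 := by decide +kernel
theorem okR280 : OKR (280 * 1008) 1008 := by decide +kernel
theorem okR281 : OKR (281 * 1008) 1008 := by decide +kernel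
theorem okR282 : OKR (282 * 1008) 1008 := by decide +kernel
theorem okR283 : OKR (283 * 1008) 1008 := by decide +kernel
theorem okR284 : OKR (284 * 1008) 1008 := by decide +kernel
theorem okR285 : OKR (285 * 1008) 1008 := by decide +kernel

end Cfsg.Agent.Helper9.SchM23
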