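import Cfsg.Agent.Helper9.SchM23.Tab

set_option autoImplicit false
set_option linter.all false
set_option maxRecDepth 1000000
set_option maxHeartbeats 0

namespace Cfsg.Agent.Helper9.SchM23

theorem okR286 : OKR (286 * 1008) 1008 := by decide +kernel
theorem okR287 : OKR (287 * 1008) 1008 := by decide +kernel
theorem okR288 : OKR (288 * 1008) 1008 := by decide +kernel
theorem okR289 : OKR (289 * 1008) 1008 := by decide +kernel
theorem okR290 : OKR (290 * 1008) 1008 := by decide +kernel
theorem okR291 : OKR (291 * 1008) 1008 := by decide +kernel
theorem okR292 : OKR (292 * 1008) 1008 := by decide +kernel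
theorem okR293 : OKR (293 * 1008) 1008 := by decide +kernel
theorem okR294 : OKR (294 * 1008) 1008 := by decide +kernel
theorem okR295 : OKR (295 * 1008) 1008 := by decide +kernel
theorem okR296 : OKR (296 * 1008) 1008 := by decide +kernel

end Cfsg.Agent.Helper9.SchM23
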