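import Cfsg.Agent.Helper9.SchM23.Tab

set_option autoImplicit false
set_option linter.all false
set_option maxRecDepth 1000000
set_option maxHeartbeats 0

namespace Cfsg.Agent.Helper9.SchM23

theorem okR330 : OKR (330 * 1008) 1008 := by decide +kernel
theorem okR331 : OKR (331 * 1008) 1008 := by decide +kernel
theorem okR332 : OKR (332 * 1008) 1008 := by decide +kernel
theorem okR333 : OKR (333 * 1008) 1008 := by decide +kernel
theorem okR334 : OKR (334 * 1008) 1008 := by decide +kernel
theorem okR335 : OKR (335 * 1008) 1008 := by decide +kernel
theorem okR336 : OKR (336 * 1008) 1008 := by decide +kernel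
theorem okR337 : OKR (337 * 1008) 1008 := by decide +kernel
theorem okR338 : OKR (338 * 1008) 1008 := by decide +kernel
theorem okR339 : OKR (339 * 1008) 1008 := by decide +kernel
theorem okR340 : OKR (340 * 1008) 1008 := by decide +kernel

end Cfsg.Agent.Helper9.SchM23
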