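import Cfsg.Agent.Helper9.SchM23.Tab

set_option autoImplicit false
set_option linter.all false
set_option maxRecDepth 1000000
set_option maxHeartbeats 0

namespace Cfsg.Agent.Helper9.SchM23

theorem okR341 : OKR (341 * 1008) 1008 := by decide +kernel
theorem okR342 : OKR (342 * 1008) 1008 := by decide +kernel
theorem okR343 : OKR (343 * 1008) 1008 := by decide +kernel
theorem okR344 : OKR (344 * 1008) 1008 := by decide +kernel
theorem okR345 : OKR (345 * 1008) 1008 := by decide +kernel
theorem okR346 : OKR (346 * 1008) 1008 := by decide +kernel
theorem okR347 : OKR (347 * 1008) 1008 := by decide +kernel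
theorem okR348 : OKR (348 * 1008) 1008 := by decide +kernel
theorem okR349 : OKR (349 * 1008) 1008 := by decide +kernel
theorem okR350 : OKR (350 * 1008) 1008 := by decide +kernel
theorem okR351 : OKR (351 * 1008) 1008 := by decide +kernel

end Cfsg.Agent.Helper9.SchM23
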