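import Cfsg.Agent.Helper9.SchM23.Tab

set_option autoImplicit false
set_option linter.all false
set_option maxRecDepth 1000000
set_option maxHeartbeats 0

namespace Cfsg.Agent.Helper9.SchM23

theorem okR374 : OKR (374 * 1008) 1008 := by decide +kernel
theorem okR375 : OKR (375 * 1008) 1008 := by decide +kernel
theorem okR376 : OKR (376 * 1008) 1008 := by decide +kernel
theorem okR377 : OKR (377 * 1008) 1008 := by decide +kernel
theorem okR378 : OKR (378 * 1008) 1008 := by decide +kernel
theorem okR379 : OKR (379 * 1008) 1008 := by decide +kernel
theorem okR380 : OKR (380 * 1008) 1008 := by decide +kernel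
theorem okR381 : OKR (381 * 1008) 1008 := by decide +kernel
theorem okR382 : OKR (382 * 1008) 1008 := by decide +kernel
theorem okR383 : OKR (383 * 1008) 1008 := by decide +kernel
theorem okR384 : OKR (384 * 1008) 1008 := by decide +kernel

end Cfsg.Agent.Helper9.SchM23
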