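import Cfsg.Agent.Helper9.SchM23.Tab

set_option autoImplicit false
set_option linter.all false
set_option maxRecDepth 1000000
set_option maxHeartbeats 0

namespace Cfsg.Agent.Helper9.SchM23

theorem okR418 : OKR (418 * 1008) 1008 := by decide +kernel
theorem okR419 : OKR (419 * 1008) 1008 := by decide +kernel
theorem okR420 : OKR (420 * 1008) 1008 := by decide +kernel
theorem okR421 : OKR (421 * 1008) 1008 := by decide +kernel
theorem okR422 : OKR (422 * 1008) 1008 := by decide +kernel
theorem okR423 : OKR (423 * 1008) 1008 := by decide +kernel
theorem okR424 : OKR (424 * 1008) 1008 := by decide +kernel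
theorem okR425 : OKR (425 * 1008) 1008 := by decide +kernel
theorem okR426 : OKR (426 * 1008) 1008 := by decide +kernel
theorem okR427 : OKR (427 * 1008) 1008 := by decide +kernel
theorem okR428 : OKR (428 * 1008) 1008 := by decide +kernel

end Cfsg.Agent.Helper9.SchM23
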