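import Cfsg.Agent.Helper9.SchM23.Tab

set_option autoImplicit false
set_option linter.all false
set_option maxRecDepth 1000000
set_option maxHeartbeats 0

namespace Cfsg.Agent.Helper9.SchM23

theorem okR429 : OKR (429 * 1008) 1008 := by decide +kernel
theorem okR430 : OKR (430 * 1008) 1008 := by decide +kernel
theorem okR431 : OKR (431 * 1008) 1008 := by decide +kernel
theorem okR432 : OKR (432 * 1008) 1008 := by decide +kernel
theorem okR433 : OKR (433 * 1008) 1008 := by decide +kernel
theorem okR434 : OKR (434 * 1008) 1008 := by decide +kernel
theorem okR435 : OKR (435 * 1008) 1008 := by decide +kernel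
theorem okR436 : OKR (436 * 1008) 1008 := by decide +kernel
theorem okR437 : OKR (437 * 1008) 1008 := by decide +kernel
theorem okR438 : OKR (438 * 1008) 1008 := by decide +kernel
theorem okR439 : OKR (439 * 1008) 1008 := by decide +kernel

end Cfsg.Agent.Helper9.SchM23
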