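import Cfsg.Agent.Helper9.SchM23.Tab

set_option autoImplicit false
set_option linter.all false
set_option maxRecDepth 1000000
set_option maxHeartbeats 0

namespace Cfsg.Agent.Helper9.SchM23

theorem okR44 : OKR (44 * 1008) 1008 := by decide +kernel
theorem okR45 : OKR (45 * 1008) 1008 := by decide +kernel
theorem okR46 : OKR (46 * 1008) 1008 := by decide +kernel
theorem okR47 : OKR (47 * 1008) 1008 := by decide +kernel
theorem okR48 : OKR (48 * 1008) 1008 := by decide +kernel
theorem okR49 : OKR (49 * 1008) 1008 := by decide +kernel
theorem okR50 : OKR (50 * 1008) 1008 := by decide +kernel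
theorem okR51 : OKR (51 * 1008) 1008 := by decide +kernel
theorem okR52 : OKR (52 * 1008) 1008 := by decide +kernel
theorem okR53 : OKR (53 * 1008) 1008 := by decide +kernel
theorem okR54 : OKR (54 * 1008) 1008 := by decide +kernel

end Cfsg.Agent.Helper9.SchM23
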