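import Cfsg.Agent.Helper9.SchM23.Tab

set_option autoImplicit false
set_option linter.all false
set_option maxRecDepth 1000000
set_option maxHeartbeats 0

namespace Cfsg.Agent.Helper9.SchM23

theorem okR55 : OKR (55 * 1008) 1008 := by decide +kernel
theorem okR56 : OKR (56 * 1008) 1008 := by decide +kernel
theorem okR57 : OKR (57 * 1008) 1008 := by decide +kernel
theorem okR58 : OKR (58 * 1008) 1008 := by decide +kernel
theorem okR59 : OKR (59 * 1008) 1008 := by decide +kernel
theorem okR60 : OKR (60 * 1008) 1008 := by decide +kernel
theorem okR61 : OKR (61 * 1008) 1008 := by decide +kernel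
theorem okR62 : OKR (62 * 1008) 1008 := by decide +kernel
theorem okR63 : OKR (63 * 1008) 1008 := by decide +kernel
theorem okR64 : OKR (64 * 1008) 1008 := by decide +kernel
theorem okR65 : OKR (65 * 1008) 1008 := by decide +kernel

end Cfsg.Agent.Helper9.SchM23
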