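import Cfsg.Agent.Helper9.SchM23.Tab

set_option autoImplicit false
set_option linter.all false
set_option maxRecDepth 1000000
set_option maxHeartbeats 0

namespace Cfsg.Agent.Helper9.SchM23

theorem okR88 : OKR (88 * 1008) 1008 := by decide +kernel
theorem okR89 : OKR (89 * 1008) 1008 := by decide +kernel
theorem okR90 : OKR (90 * 1008) 1008 := by decide +kernel
theorem okR91 : OKR (91 * 1008) 1008 := by decide +kernel
theorem okR92 : OKR (92 * 1008) 1008 := by decide +kernel
theorem okR93 : OKR (93 * 1008) 1008 := by decide +kernel
theorem okR94 : OKR (94 * 1008) 1008 := by decide +kernel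
theorem okR95 : OKR (95 * 1008) 1008 := by decide +kernel
theorem okR96 : OKR (96 * 1008) 1008 := by decide +kernel
theorem okR97 : OKR (97 * 1008) 1008 := by decide +kernel
theorem okR98 : OKR (98 * 1008) 1008 := by decide +kernel

end Cfsg.Agent.Helper9.SchM23
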