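import Mathlib
import Cfsg.Agent.Helper19.TCR.Lab
import Cfsg.Agent.Helper9.SchM23.Chk0
import Cfsg.Agent.Helper9.SchM23.Chk1
import Cfsg.Agent.Helper9.SchM23.Chk2
import Cfsg.Agent.Helper9.SchM23.Chk3
import Cfsg.Agent.Helper9.SchM23.Chk4
import Cfsg.Agent.Helper9.SchM23.Chk5
import Cfsg.Agent.Helper9.SchM23.Chk6
import Cfsg.Agent.Helper9.SchM23.Chk7
import Cfsg.Agent.Helper9.SchM23.Chk8
import Cfsg.Agent.Helper9.SchM23.Chk9
import Cfsg.Agent.Helper9.SchM23.Chk10
import Cfsg.Agent.Helper9.SchM23.Chk11
import Cfsg.Agent.Helper9.SchM23.Chk12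
import Cfsg.Agent.Helper9.SchM23.Chk13
import Cfsg.Agent.Helper9.SchM23.Chk14
import Cfsg.Agent.Helper9.SchM23.Chk15
import Cfsg.Agent.Helper9.SchM23.Chk16
import Cfsg.Agent.Helper9.SchM23.Chk17
import Cfsg.Agent.Helper9.SchM23.Chk18
import Cfsg.Agent.Helper9.SchM23.Chk19
import Cfsg.Agent.Helper9.SchM23.Chk20
import Cfsg.Agent.Helper9.SchM23.Chk21
import Cfsg.Agent.Helper9.SchM23.Chk22
import Cfsg.Agent.Helper9.SchM23.Chk23
import Cfsg.Agent.Helper9.SchM23.Chk24
import Cfsg.Agent.Helper9.SchM23.Chk25
import Cfsg.Agent.Helper9.SchM23.Chk26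
import Cfsg.Agent.Helper9.SchM23.Chk27
import Cfsg.Agent.Helper9.SchM23.Chk28
import Cfsg.Agent.Helper9.SchM23.Chk29
import Cfsg.Agent.Helper9.SchM23.Chk30
import Cfsg.Agent.Helper9.SchM23.Chk31
import Cfsg.Agent.Helper9.SchM23.Chk32
import Cfsg.Agent.Helper9.SchM23.Chk33
import Cfsg.Agent.Helper9.SchM23.Chk34
import Cfsg.Agent.Helper9.SchM23.Chk35
import Cfsg.Agent.Helper9.SchM23.Chk36
import Cfsg.Agent.Helper9.SchM23.Chk37
import Cfsg.Agent.Helper9.SchM23.Chk38
import Cfsg.Agent.Helper9.SchM23.Chk39
import Cfsg.Agent.Helper9.SchM23.ChkT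

set_option autoImplicit false
set_option linter.all false
set_option maxRecDepth 1000000
set_option maxHeartbeats 0

namespace Cfsg.Agent.Helper9.SchM23

open Cfsg.Agent.Helper19.TCS Cfsg.Agent.Helper19.TCL

theorem okR_all : ∀ p, p < 440 → OKR (p * 1008) 1008 := by
  intro p hp
  interval_cases p
  · exact okR0
  · exact okR1
  · exact okR2
  · exact okR3
  · exact okR4
  · exact okR5
  · exact okR6
  · exact okR7
  · exact okR8
  · exact okR9
  · exact okR10
  · exact okR11
  · exact okR12
  · exact okR13
  · exact okR14
  · exact okR15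
  · exact okR16
  · exact okR17
  · exact okR18
  · exact okR19
  · exact okR20
  · exact okR21
  · exact okR22
  · exact okR23
  · exact okR24
  · exact okR25
  · exact okR26
  · exact okR27
  · exact okR28
  · exact okR29
  · exact okR30
  · exact okR31
  · exact okR32
  · exact okR33
  · exact okR34
  · exact okR35
  · exact okR36
  · exact okR37
  · exact okR38
  · exact okR39
  · exact okR40
  · exact okR41
  · exact okR42
  · exact okR43
  · exact okR44
  · exact okR45
  · exact okR46
  · exact okR47
  · exact okR48
  · exact okR49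
  · exact okR50
  · exact okR51
  · exact okR52
  · exact okR53
  · exact okR54
  · exact okR55
  · exact okR56
  · exact okR57
  · exact okR58
  · exact okR59
  · exact okR60
  · exact okR61
  · exact okR62
  · exact okR63
  · exact okR64
  · exact okR65
  · exact okR66
  · exact okR67
  · exact okR68
  · exact okR69
  · exact okR70
  · exact okR71
  · exact okR72
  · exact okR73
  · exact okR74
  · exact okR75
  · exact okR76
  · exact okR77
  · exact okR78
  · exact okR79
  · exact okR80
  · exact okR81
  · exact okR82
  · exact okR83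
  · exact okR84
  · exact okR85
  · exact okR86
  · exact okR87
  · exact okR88
  · exact okR89
  · exact okR90
  · exact okR91
  · exact okR92
  · exact okR93
  · exact okR94
  · exact okR95
  · exact okR96
  · exact okR97
  · exact okR98
  · exact okR99
  · exact okR100
  · exact okR101
  · exact okR102
  · exact okR103
  · exact okR104
  · exact okR105
  · exact okR106
  · exact okR107
  · exact okR108
  · exact okR109
  · exact okR110
  · exact okR111
  · exact okR112
  · exact okR113
  · exact okR114
  · exact okR115
  · exact okR116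
  · exact okR117
  · exact okR118
  · exact okR119
  · exact okR120
  · exact okR121
  · exact okR122
  · exact okR123
  · exact okR124
  · exact okR125
  · exact okR126
  · exact okR127
  · exact okR128
  · exact okR129
  · exact okR130
  · exact okR131
  · exact okR132
  · exact okR133
  · exact okR134
  · exact okR135
  · exact okR136
  · exact okR137
  · exact okR138
  · exact okR139
  · exact okR140
  · exact okR141
  · exact okR142
  · exact okR143
  · exact okR144
  · exact okR145
  · exact okR146
  · exact okR147
  · exact okR148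
  · exact okR149
  · exact okR150
  · exact okR151
  · exact okR152
  · exact okR153
  · exact okR154
  · exact okR155
  · exact okR156
  · exact okR157
  · exact okR158
  · exact okR159
  · exact okR160
  · exact okR161
  · exact okR162
  · exact okR163
  · exact okR164
  · exact okR165
  · exact okR166
  · exact okR167
  · exact okR168
  · exact okR169
  · exact okR170
  · exact okR171
  · exact okR172
  · exact okR173
  · exact okR174
  · exact okR175
  · exact okR176
  · exact okR177
  · exact okR178
  · exact okR179
  · exact okR180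
  · exact okR181
  · exact okR182
  · exact okR183
  · exact okR184
  · exact okR185
  · exact okR186
  · exact okR187
  · exact okR188
  · exact okR189
  · exact okR190
  · exact okR191
  · exact okR192
  · exact okR193
  · exact okR194
  · exact okR195
  · exact okR196
  · exact okR197
  · exact okR198
  · exact okR199
  · exact okR200
  · exact okR201
  · exact okR202
  · exact okR203
  · exact okR204
  · exact okR205
  · exact okR206
  · exact okR207
  · exact okR208
  · exact okR209
  · exact okR210
  · exact okR211
  · exact okR212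
  · exact okR213
  · exact okR214
  · exact okR215
  · exact okR216
  · exact okR217
  · exact okR218
  · exact okR219
  · exact okR220
  · exact okR221
  · exact okR222
  · exact okR223
  · exact okR224
  · exact okR225
  · exact okR226
  · exact okR227
  · exact okR228
  · exact okR229
  · exact okR230
  · exact okR231
  · exact okR232
  · exact okR233
  · exact okR234
  · exact okR235
  · exact okR236
  · exact okR237
  · exact okR238
  · exact okR239
  · exact okR240
  · exact okR241
  · exact okR242
  · exact okR243
  · exact okR244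
  · exact okR245
  · exact okR246
  · exact okR247
  · exact okR248
  · exact okR249
  · exact okR250
  · exact okR251
  · exact okR252
  · exact okR253
  · exact okR254
  · exact okR255
  · exact okR256
  · exact okR257
  · exact okR258
  · exact okR259
  · exact okR260
  · exact okR261
  · exact okR262
  · exact okR263
  · exact okR264
  · exact okR265
  · exact okR266
  · exact okR267
  · exact okR268
  · exact okR269
  · exact okR270
  · exact okR271
  · exact okR272
  · exact okR273
  · exact okR274
  · exact okR275
  · exact okR276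
  · exact okR277
  · exact okR278
  · exact okR279
  · exact okR280
  · exact okR281
  · exact okR282
  · exact okR283
  · exact okR284
  · exact okR285
  · exact okR286
  · exact okR287
  · exact okR288
  · exact okR289
  · exact okR290
  · exact okR291
  · exact okR292
  · exact okR293
  · exact okR294
  · exact okR295
  · exact okR296
  · exact okR297
  · exact okR298
  · exact okR299
  · exact okR300
  · exact okR301
  · exact okR302
  · exact okR303
  · exact okR304
  · exact okR305
  · exact okR306
  · exact okR307
  · exact okR308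
  · exact okR309
  · exact okR310
  · exact okR311
  · exact okR312
  · exact okR313
  · exact okR314
  · exact okR315
  · exact okR316
  · exact okR317
  · exact okR318
  · exact okR319
  · exact okR320
  · exact okR321
  · exact okR322
  · exact okR323
  · exact okR324
  · exact okR325
  · exact okR326
  · exact okR327
  · exact okR328
  · exact okR329
  · exact okR330
  · exact okR331
  · exact okR332
  · exact okR333
  · exact okR334
  · exact okR335
  · exact okR336
  · exact okR337
  · exact okR338
  · exact okR339
  · exact okR340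
  · exact okR341
  · exact okR342
  · exact okR343
  · exact okR344
  · exact okR345
  · exact okR346
  · exact okR347
  · exact okR348
  · exact okR349
  · exact okR350
  · exact okR351
  · exact okR352
  · exact okR353
  · exact okR354
  · exact okR355
  · exact okR356
  · exact okR357
  · exact okR358
  · exact okR359
  · exact okR360
  · exact okR361
  · exact okR362
  · exact okR363
  · exact okR364
  · exact okR365
  · exact okR366
  · exact okR367
  · exact okR368
  · exact okR369
  · exact okR370
  · exact okR371
  · exact okR372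
  · exact okR373
  · exact okR374
  · exact okR375
  · exact okR376
  · exact okR377
  · exact okR378
  · exact okR379
  · exact okR380
  · exact okR381
  · exact okR382
  · exact okR383
  · exact okR384
  · exact okR385
  · exact okR386
  · exact okR387
  · exact okR388
  · exact okR389
  · exact okR390
  · exact okR391
  · exact okR392
  · exact okR393
  · exact okR394
  · exact okR395
  · exact okR396
  · exact okR397
  · exact okR398
  · exact okR399
  · exact okR400
  · exact okR401
  · exact okR402
  · exact okR403
  · exact okR404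
  · exact okR405
  · exact okR406
  · exact okR407
  · exact okR408
  · exact okR409
  · exact okR410
  · exact okR411
  · exact okR412
  · exact okR413
  · exact okR414
  · exact okR415
  · exact okR416
  · exact okR417
  · exact okR418
  · exact okR419
  · exact okR420
  · exact okR421
  · exact okR422
  · exact okR423
  · exact okR424
  · exact okR425
  · exact okR426
  · exact okR427
  · exact okR428
  · exact okR429
  · exact okR430
  · exact okR431
  · exact okR432
  · exact okR433
  · exact okR434
  · exact okR435
  · exact okR436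
  · exact okR437
  · exact okR438
  · exact okR439

theorem okT_all : ∀ p, p < 23 → OKT (p * 20000) 20000 := by
  intro p hp
  interval_cases p
  · exact okT0
  · exact okT1
  · exact okT2
  · exact okT3
  · exact okT4
  · exact okT5
  · exact okT6
  · exact okT7
  · exact okT8
  · exact okT9
  · exact okT10
  · exact okT11
  · exact okT12
  · exact okT13
  · exact okT14
  · exact okT15
  · exact okT16
  · exact okT17
  · exact okT18
  · exact okT19
  · exact okT20
  · exact okT21
  · exact okT22

theorem okAll : ∀ i l, i < 443520 → l < 4 → OKE i l := by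
  intro i l hi hl
  have hp : i / 1008 < 440 := by omega
  have h1 : i / 1008 * 1008 ≤ i := Nat.div_mul_le_self i 1008
  have h2 : i < i / 1008 * 1008 + 1008 := by omega
  exact okRowsL_spec (i / 1008 * 1008) 1008 (okR_all (i / 1008) hp) i h1 h2 hi l hl

theorem treeAll : ∀ j, 0 < j → j < 443520 → parF j < j := by
  intro j h0 hj
  have hp : j / 20000 < 23 := by omega
  have h1 : j / 20000 * 20000 ≤ j := Nat.div_mul_le_self j 20000
  have h2 : j < j / 20000 * 20000 + 20000 := by omega
  exact okTree_spec (j / 20000 * 20000) 20000 (okT_all (j / 20000) hp) j h1 h2 h0 hj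

theorem rotsF_ok : ∀ r, r < 58 → rotsF r = rotL.getD r ([], 0, 0) := by
  have h : (List.range 58).all (fun r => rotsF r == rotL.getD r ([], 0, 0)) = true := by decide +kernel
  intro r hr
  have := forall_lt_of_all h r hr
  exact beq_iff_eq.mp this

theorem rotL_ok : (List.range 58).all (fun r =>
    rotOKL 4 subs.length 8 2097152 32768 16384 rels (rotL.getD r ([], 0, 0)) (rotIdx.getD r (0, 0))) = true := by
  decide +kernel

theorem subL_ok : (List.range subL.length).all (fun s =>
    subOKL 4 8 2097152 32768 16384 subs (subL.getD s ([], 0, [], 0)) (subIdx.getD s 0)) = true := by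
  decide +kernel

theorem subsF_ok : ∀ s, (subsF s).2.1 < 4 → s < subL.length ∧ subsF s = subL.getD s ([], 0, [], 0) := by
  intro s hs
  unfold subsF at hs ⊢
  by_cases h : s < subL.length
  · refine ⟨h, ?_⟩
    rw [List.getD_eq_getElem _ _ h, List.getD_eq_getElem _ _ h]
  · rw [List.getD_eq_default _ _ (not_lt.mp h)] at hs
    simp at hs

/-- the labelled table is closed, for any group with generators `gc` whose relator values are central. -/
theorem closedL {Γ : Type*} [Group Γ] {C : Type*} [CommGroup C] (gc : ℕ → Γ) (ι : C →* Γ) (gen : ℕ → C)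
    (hinv : ∀ l, l < 4 → gc (invF l) = (gc l)⁻¹)
    (hrels : ∀ ρ, ρ < rels.length → prodw gc (rels.getD ρ []) = ι (gen (subs.length + ρ)) ∧
      ∀ g : Γ, Commute (prodw gc (rels.getD ρ [])) g)
    (hsubs : ∀ s, s < subs.length → prodw gc (subs.getD s []) = ι (gen s)) :
    SemL 443520 4 1048576 8 2097152 32768 16384 2923004668459045358886121270524266843195819704320 invF 58 rotsF subsF gc ι gen ∧
      ∀ i l, i < 443520 → l < 4 → FactL gc ι gen 443520 524288 35184372088832 8 2097152 32768 16384 ent parF pletF i l := by
  have S : SemL 443520 4 1048576 8 2097152 32768 16384 2923004668459045358886121270524266843195819704320 invF 58 rotsF subsF gc ι gen :=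
    semL_of_data rels subs rotL rotIdx subL subIdx
      (by intro l hl; interval_cases l <;> decide) hinv (by norm_num) (by norm_num) (by norm_num)
      (by decide +kernel) (by norm_num) (by norm_num) rotsF_ok rotL_ok hrels subsF_ok subL_ok hsubs
  exact ⟨S, closed_of_okL S treeAll okAll⟩


theorem face0 {Γ : Type*} [Group Γ] {C : Type*} [CommGroup C] (gc : ℕ → Γ) (ι : C →* Γ) (gen : ℕ → C)
    (hinv : ∀ l, l < 4 → gc (invF l) = (gc l)⁻¹)
    (hrels : ∀ ρ, ρ < rels.length → prodw gc (rels.getD ρ []) = ι (gen (subs.length + ρ)) ∧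
      ∀ g : Γ, Commute (prodw gc (rels.getD ρ [])) g)
    (hsubs : ∀ s, s < subs.length → prodw gc (subs.getD s []) = ι (gen s)) :
    ι (gen (subs.length + 1)) = ι (dsem gen 16384 2 0 [32768, 32768, 32770, 32768, 32768, 32768, 32767, 32769]) := by
  obtain ⟨S, hcl⟩ := closedL gc ι gen hinv hrels hsubs
  have hw : [2, 2] = (rels.getD 1 []).rotate 0 := by decide
  obtain ⟨h1, h2⟩ := hrels 1 (by decide)
  have hcen : ∀ g : Γ, Commute (prodw gc [2, 2]) g := by
    rw [hw, prodw_rotate_central h2]; exact h2
  have h3 := face_spec S hcl (w := [2, 2]) (b := 7192) (expected := 5846187742794608371027140210928871230221838221312) (by norm_num) (by decide) (by norm_num)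
    [32768, 32768, 32770, 32768, 32768, 32768, 32767, 32769] (by decide) (by decide) (by decide +kernel) hcen okF0
  rw [← h1, ← prodw_rotate_central h2 0, ← hw]
  exact h3


theorem face1 {Γ : Type*} [Group Γ] {C : Type*} [CommGroup C] (gc : ℕ → Γ) (ι : C →* Γ) (gen : ℕ → C)
    (hinv : ∀ l, l < 4 → gc (invF l) = (gc l)⁻¹)
    (hrels : ∀ ρ, ρ < rels.length → prodw gc (rels.getD ρ []) = ι (gen (subs.length + ρ)) ∧
      ∀ g : Γ, Commute (prodw gc (rels.getD ρ [])) g)
    (hsubs : ∀ s, s < subs.length → prodw gc (subs.getD s []) = ι (gen s)) :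
    ι (gen (subs.length + 3)) = ι (dsem gen 16384 15 0 [245760, 245760, 245760, 245761, 245759, 245760, 245760, 245761]) := by
  obtain ⟨S, hcl⟩ := closedL gc ι gen hinv hrels hsubs
  have hw : [0, 0, 2, 0, 2, 1, 2, 1, 2, 0, 2, 0, 2, 0, 2] = (rels.getD 3 []).rotate 0 := by decide
  obtain ⟨h1, h2⟩ := hrels 3 (by decide)
  have hcen : ∀ g : Γ, Commute (prodw gc [0, 0, 2, 0, 2, 1, 2, 1, 2, 0, 2, 0, 2, 0, 2]) g := by
    rw [hw, prodw_rotate_central h2]; exact h2
  have h3 := face_spec S hcl (w := [0, 0, 2, 0, 2, 1, 2, 1, 2, 0, 2, 0, 2, 0, 2]) (b := 36633) (expected := 43845248432847268628276932000806293372799402885120) (by norm_num) (by decide) (by norm_num)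
    [245760, 245760, 245760, 245761, 245759, 245760, 245760, 245761] (by decide) (by decide) (by decide +kernel) hcen okF1
  rw [← h1, ← prodw_rotate_central h2 0, ← hw]
  exact h3


theorem face2 {Γ : Type*} [Group Γ] {C : Type*} [CommGroup C] (gc : ℕ → Γ) (ι : C →* Γ) (gen : ℕ → C)
    (hinv : ∀ l, l < 4 → gc (invF l) = (gc l)⁻¹)
    (hrels : ∀ ρ, ρ < rels.length → prodw gc (rels.getD ρ []) = ι (gen (subs.length + ρ)) ∧
      ∀ g : Γ, Commute (prodw gc (rels.getD ρ [])) g)
    (hsubs : ∀ s, s < subs.length → prodw gc (subs.getD s []) = ι (gen s)) :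
    ι (gen (subs.length + 1)) = ι (dsem gen 16384 2 0 [32768, 32768, 32764, 32768, 32768, 32768, 32768, 32769]) := by
  obtain ⟨S, hcl⟩ := closedL gc ι gen hinv hrels hsubs
  have hw : [2, 2] = (rels.getD 1 []).rotate 0 := by decide
  obtain ⟨h1, h2⟩ := hrels 1 (by decide)
  have hcen : ∀ g : Γ, Commute (prodw gc [2, 2]) g := by
    rw [hw, prodw_rotate_central h2]; exact h2
  have h3 := face_spec S hcl (w := [2, 2]) (b := 138610) (expected := 5846187742879678962757374826794714855691501207552) (by norm_num) (by decide) (by norm_num)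
    [32768, 32768, 32764, 32768, 32768, 32768, 32768, 32769] (by decide) (by decide) (by decide +kernel) hcen okF2
  rw [← h1, ← prodw_rotate_central h2 0, ← hw]
  exact h3


theorem face3 {Γ : Type*} [Group Γ] {C : Type*} [CommGroup C] (gc : ℕ → Γ) (ι : C →* Γ) (gen : ℕ → C)
    (hinv : ∀ l, l < 4 → gc (invF l) = (gc l)⁻¹)
    (hrels : ∀ ρ, ρ < rels.length → prodw gc (rels.getD ρ []) = ι (gen (subs.length + ρ)) ∧
      ∀ g : Γ, Commute (prodw gc (rels.getD ρ [])) g)
    (hsubs : ∀ s, s < subs.length → prodw gc (subs.getD s []) = ι (gen s)) :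
    ι (gen (subs.length + 1)) = ι (dsem gen 16384 2 0 [32768, 32768, 32769, 32771, 32768, 32764, 32769, 32768]) := by
  obtain ⟨S, hcl⟩ := closedL gc ι gen hinv hrels hsubs
  have hw : [2, 2] = (rels.getD 1 []).rotate 0 := by decide
  obtain ⟨h1, h2⟩ := hrels 1 (by decide)
  have hcen : ∀ g : Γ, Commute (prodw gc [2, 2]) g := by
    rw [hw, prodw_rotate_central h2]; exact h2
  have h3 := face_spec S hcl (w := [2, 2]) (b := 12436) (expected := 5846009337003161147243200327728684067180182011904) (by norm_num) (by decide) (by norm_num)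
    [32768, 32768, 32769, 32771, 32768, 32764, 32769, 32768] (by decide) (by decide) (by decide +kernel) hcen okF3
  rw [← h1, ← prodw_rotate_central h2 0, ← hw]
  exact h3


theorem face4 {Γ : Type*} [Group Γ] {C : Type*} [CommGroup C] (gc : ℕ → Γ) (ι : C →* Γ) (gen : ℕ → C)
    (hinv : ∀ l, l < 4 → gc (invF l) = (gc l)⁻¹)
    (hrels : ∀ ρ, ρ < rels.length → prodw gc (rels.getD ρ []) = ι (gen (subs.length + ρ)) ∧
      ∀ g : Γ, Commute (prodw gc (rels.getD ρ [])) g)
    (hsubs : ∀ s, s < subs.length → prodw gc (subs.getD s []) = ι (gen s)) :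
    ι (gen (subs.length + 0)) = ι (dsem gen 16384 23 0 [376855, 376832, 376832, 376832, 376832, 376832, 376832, 376832]) := by
  obtain ⟨S, hcl⟩ := closedL gc ι gen hinv hrels hsubs
  have hw : [0, 0, 0, 0, 0, 0, 0, 0, 0, 0, 0, 0, 0, 0, 0, 0, 0, 0, 0, 0, 0, 0, 0] = (rels.getD 0 []).rotate 0 := by decide
  obtain ⟨h1, h2⟩ := hrels 0 (by decide)
  have hcen : ∀ g : Γ, Commute (prodw gc [0, 0, 0, 0, 0, 0, 0, 0, 0, 0, 0, 0, 0, 0, 0, 0, 0, 0, 0, 0, 0, 0, 0]) g := by
    rw [hw, prodw_rotate_central h2]; exact h2
  have h3 := face_spec S hcl (w := [0, 0, 0, 0, 0, 0, 0, 0, 0, 0, 0, 0, 0, 0, 0, 0, 0, 0, 0, 0, 0, 0, 0]) (b := 0) (expected := 67229107374558043254380789222058137393503853199383) (by norm_num) (by decide) (by norm_num)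
    [376855, 376832, 376832, 376832, 376832, 376832, 376832, 376832] (by decide) (by decide) (by decide +kernel) hcen okF4
  rw [← h1, ← prodw_rotate_central h2 0, ← hw]
  exact h3


theorem face5 {Γ : Type*} [Group Γ] {C : Type*} [CommGroup C] (gc : ℕ → Γ) (ι : C →* Γ) (gen : ℕ → C)
    (hinv : ∀ l, l < 4 → gc (invF l) = (gc l)⁻¹)
    (hrels : ∀ ρ, ρ < rels.length → prodw gc (rels.getD ρ []) = ι (gen (subs.length + ρ)) ∧
      ∀ g : Γ, Commute (prodw gc (rels.getD ρ [])) g)
    (hsubs : ∀ s, s < subs.length → prodw gc (subs.getD s []) = ι (gen s)) :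
    ι (gen (subs.length + 3)) = ι (dsem gen 16384 15 0 [245760, 245758, 245759, 245765, 245761, 245761, 245768, 245748]) := by
  obtain ⟨S, hcl⟩ := closedL gc ι gen hinv hrels hsubs
  have hw : [0, 0, 2, 0, 2, 1, 2, 1, 2, 0, 2, 0, 2, 0, 2] = (rels.getD 3 []).rotate 0 := by decide
  obtain ⟨h1, h2⟩ := hrels 3 (by decide)
  have hcen : ∀ g : Γ, Commute (prodw gc [0, 0, 2, 0, 2, 1, 2, 1, 2, 0, 2, 0, 2, 0, 2]) g := by
    rw [hw, prodw_rotate_central h2]; exact h2
  have h3 := face_spec S hcl (w := [0, 0, 2, 0, 2, 1, 2, 1, 2, 0, 2, 0, 2, 0, 2]) (b := 343740) (expected := 43842929156027186217876947105999149157843778912256) (by norm_num) (by decide) (by norm_num)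
    [245760, 245758, 245759, 245765, 245761, 245761, 245768, 245748] (by decide) (by decide) (by decide +kernel) hcen okF5
  rw [← h1, ← prodw_rotate_central h2 0, ← hw]
  exact h3

end Cfsg.Agent.Helper9.SchM23
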