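import Mathlib

import Cfsg.Agent.Helper9.SchM23.Facts
import Cfsg.Agent.Helper19.Schur.Cover
import Cfsg.Agent.Helper19.Schur.FinSum

/-! The upper half for the Schur multiplier of M23: instance of the labelled Todd–Coxeter
pipeline, and the lattice computations. (generated) -/

set_option autoImplicit false
set_option linter.all false
set_option maxRecDepth 100000
set_option maxHeartbeats 0

namespace Cfsg.Agent.Helper9.SchM23

open Cfsg Cfsg.Agent.Helper19.TCS Cfsg.Agent.Helper19.TCL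
  Cfsg.Agent.Helper19.Schur

universe u

theorem invF_eq : ∀ l, l < 4 → invF l = inv4 l := by
  intro l hl
  interval_cases l <;> rfl

theorem prodw_replicate {Δ : Type*} [Group Δ] (gc : ℕ → Δ) (l n : ℕ) :
    prodw gc (List.replicate n l) = gc l ^ n := by
  induction n with
  | zero => simp [prodw]
  | succ n ih => rw [List.replicate_succ, prodw, ih, pow_succ]

theorem hcen_of_trivial {Δ : Type u} [Group Δ] (a b : Δ)
    (h : ∀ w ∈ rels, prodw (gc2 a b) w = 1) :
    ∀ ρ g, Commute (prodw (gc2 a b) (rels.getD ρ [])) g := by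
  intro ρ g
  have : prodw (gc2 a b) (rels.getD ρ []) = 1 :=
    forall_getD_of_forall_mem (fun w => prodw (gc2 a b) w = 1) rels [] h rfl ρ
  rw [this]
  exact Commute.one_left g

theorem closedL' {Δ : Type u} [Group Δ] (a b : Δ)
    (hcen : ∀ ρ g, Commute (prodw (gc2 a b) (rels.getD ρ [])) g) :
    SemL 443520 4 1048576 8 2097152 32768 16384 2923004668459045358886121270524266843195819704320 invF 58 rotsF subsF
        (gc2 a b) (iotaC (gfam a b rels 8) (gfam_comm a b rels 8 hcen)) (genC 8) ∧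
      ∀ i l, i < 443520 → l < 4 →
        FactL (gc2 a b) (iotaC (gfam a b rels 8) (gfam_comm a b rels 8 hcen)) (genC 8)
          443520 524288 35184372088832 8 2097152 32768 16384 ent parF pletF i l :=
  closedL (gc2 a b) _ (genC 8) (gc2_invF a b invF invF_eq)
    (bridge_rels a b rels 8 (by decide) hcen) (bridge_subs a b rels 8 (by norm_num) hcen)

theorem hT1 (Δ : Type u) [Group Δ] (a b : Δ)
    (hgen : Subgroup.closure {a, b} = (⊤ : Subgroup Δ))
    (hrel : ∀ w ∈ rels, prodw (gc2 a b) w = 1) : Finite Δ ∧ Nat.card Δ ≤ 10200960 := by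
  have hcen := hcen_of_trivial a b hrel
  obtain ⟨S, hcl⟩ := closedL' a b hcen
  have ha : a ^ 23 = 1 := by
    have h1 := hrel (List.replicate 23 0) (by decide)
    rw [prodw_replicate] at h1
    exact h1
  have hι : ∀ c, iotaC (gfam a b rels 8) (gfam_comm a b rels 8 hcen) c ∈ Subgroup.zpowers a := by
    intro c
    apply iotaC_mem
    intro i
    unfold gfam
    split_ifs with h
    · exact Subgroup.mem_zpowers a
    · have : prodw (gc2 a b) (rels.getD ((i : ℕ) - 1) []) = 1 :=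
        forall_getD_of_forall_mem (fun w => prodw (gc2 a b) w = 1) rels [] hrel rfl _
      rw [this]
      exact one_mem _
  have := card_le_of_factL a b hgen _ (genC 8) S hcl 23 (by norm_num) ha hι
  exact this

/-- the relations among the relator symbols found by the faces. -/
def lam : Fin 6 → Fin 8 → ℤ :=
  ![![0, 0, 1, 0, 0, 0, -1, 1],
    ![0, 0, 0, 1, -2, 0, 0, 1],
    ![0, 0, -5, 0, 0, 0, 0, 1],
    ![0, 0, 0, 3, 0, -4, 1, 0],
    ![23, -1, 0, 0, 0, 0, 0, 0],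
    ![0, -2, -1, 5, 0, 1, 8, -12]]

theorem hT2 (Δ : Type u) [Group Δ] (a b : Δ)
    (hcen : ∀ ρ g, Commute (prodw (gc2 a b) (rels.getD ρ [])) g) (j : Fin 6) :
    Psi (gfam a b rels 8) (gfam_comm a b rels 8 hcen) (lam j) = 1 := by
  have hinv := gc2_invF a b invF invF_eq
  have hrels := bridge_rels a b rels 8 (by decide) hcen
  have hsubs := bridge_subs a b rels 8 (by norm_num) hcen
  fin_cases j
  · exact psi_eq_one_of_face _ _ 16384 2 [32768, 32768, 32770, 32768, 32768, 32768, 32767, 32769] rfl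
      ⟨2, by norm_num⟩ _ (face0 (gc2 a b) _ (genC 8) hinv hrels hsubs) (by decide +kernel)
  · exact psi_eq_one_of_face _ _ 16384 15 [245760, 245760, 245760, 245761, 245759, 245760, 245760, 245761] rfl
      ⟨4, by norm_num⟩ _ (face1 (gc2 a b) _ (genC 8) hinv hrels hsubs) (by decide +kernel)
  · exact psi_eq_one_of_face _ _ 16384 2 [32768, 32768, 32764, 32768, 32768, 32768, 32768, 32769] rfl
      ⟨2, by norm_num⟩ _ (face2 (gc2 a b) _ (genC 8) hinv hrels hsubs) (by decide +kernel)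
  · exact psi_eq_one_of_face _ _ 16384 2 [32768, 32768, 32769, 32771, 32768, 32764, 32769, 32768] rfl
      ⟨2, by norm_num⟩ _ (face3 (gc2 a b) _ (genC 8) hinv hrels hsubs) (by decide +kernel)
  · exact psi_eq_one_of_face _ _ 16384 23 [376855, 376832, 376832, 376832, 376832, 376832, 376832, 376832] rfl
      ⟨1, by norm_num⟩ _ (face4 (gc2 a b) _ (genC 8) hinv hrels hsubs) (by decide +kernel)
  · exact psi_eq_one_of_face _ _ 16384 15 [245760, 245758, 245759, 245765, 245761, 245761, 245768, 245748] rfl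
      ⟨4, by norm_num⟩ _ (face5 (gc2 a b) _ (genC 8) hinv hrels hsubs) (by decide +kernel)

/-! ### The lattice data -/

def e1 : Fin 8 → ℤ := ![0, 23, 0, 8, 4, 6, 0, 0]
def e2 : Fin 8 → ℤ := ![0, 0, 2, 4, 7, 6, 12, 10]
def c1 : Fin 8 → ℤ := ![0, 1, 2, -2, 0, -1, 0, 1]
def c2 : Fin 8 → ℤ := ![0, 0, -10, 3, -3, -2, 6, -3]
def g0 : Fin 8 → ℤ := ![0, 0, 1, 0, 0, 0, -1, 1]

theorem he1 : ∀ c : Fin 8, e1 c = if (c : ℕ) = 0 then 0 else es0 (rels.getD ((c : ℕ) - 1) []) := by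
  decide +kernel

theorem he2 : ∀ c : Fin 8, e2 c = if (c : ℕ) = 0 then 0 else es1 (rels.getD ((c : ℕ) - 1) []) := by
  decide +kernel

theorem Efun_eq (e v : Fin 8 → ℤ) : Efun e v =
    v 0 * e 0 + v 1 * e 1 + v 2 * e 2 + v 3 * e 3 + v 4 * e 4 + v 5 * e 5 + v 6 * e 6 + v 7 * e 7 := by
  unfold Efun
  rw [Fin.sum_univ_eight]

theorem hc1 : (∀ c : Fin 8, (c : ℕ) = 0 → c1 c = 0) ∧ Efun e1 c1 = 1 ∧ Efun e2 c1 = 0 := by
  refine ⟨by decide, ?_, ?_⟩ <;> rw [Efun_eq] <;> decide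

theorem hc2 : (∀ c : Fin 8, (c : ℕ) = 0 → c2 c = 0) ∧ Efun e1 c2 = 0 ∧ Efun e2 c2 = 1 := by
  refine ⟨by decide, ?_, ?_⟩ <;> rw [Efun_eq] <;> decide

theorem hg0 : ∀ c : Fin 8, (c : ℕ) = 0 → g0 c = 0 := by decide

theorem hL1 : ∀ v : Fin 8 → ℤ, (∀ c : Fin 8, (c : ℕ) = 0 → v c = 0) → Efun e1 v = 0 →
    Efun e2 v = 0 → ∃ (cf : Fin 6 → ℤ) (t : ℤ), v = ∑ j, cf j • lam j + t • g0 := by
  intro v h0 h1 h2
  have h0' : v 0 = 0 := h0 0 rfl
  rw [Efun_eq] at h1 h2
  simp only [e1, e2, Matrix.cons_val_zero, Matrix.cons_val_one, Matrix.cons_val] at h1 h2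
  refine ⟨![(-7) * v 1 + (1) * v 2 + (1) * v 3 + (3) * v 4 + (2) * v 5 + (5) * v 6 + (5) * v 7,
      (1) * v 2 + (2) * v 3 + (3) * v 4 + (3) * v 5 + (6) * v 6 + (5) * v 7,
      (1) * v 1 + (1) * v 3 + (1) * v 4 + (1) * v 5 + (1) * v 6 + (1) * v 7,
      (-3) * v 1 + (1) * v 2 + (1) * v 3 + (3) * v 4 + (2) * v 5 + (6) * v 6 + (5) * v 7,
      0,
      (11) * v 1 + (4) * v 3 + (2) * v 4 + (3) * v 5],
    0, ?_⟩
  funext c
  rw [Fin.sum_univ_six]
  fin_cases c
  · simp [lam, g0] <;> linear_combination (0) * h1 + (0) * h2 + (1) * h0'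
  · simp [lam, g0] <;> linear_combination (1) * h1 + (0) * h2 + (0) * h0'
  · simp [lam, g0] <;> linear_combination (1) * h1 + (0) * h2 + (0) * h0'
  · simp [lam, g0] <;> linear_combination (-2) * h1 + (-2) * h2 + (0) * h0'
  · simp [lam, g0] <;> linear_combination (0) * h1 + (1) * h2 + (0) * h0'
  · simp [lam, g0] <;> linear_combination (-1) * h1 + (2) * h2 + (0) * h0'
  · simp [lam, g0] <;> linear_combination (-4) * h1 + (0) * h2 + (0) * h0'
  · simp [lam, g0] <;> linear_combination (6) * h1 + (-1) * h2 + (0) * h0'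

theorem hL2 : ∃ cf : Fin 6 → ℤ, ((1 : ℕ) : ℤ) • g0 = ∑ j, cf j • lam j := by
  refine ⟨![1, 0, 0, 0, 0, 0], ?_⟩
  funext c
  rw [Fin.sum_univ_six]
  fin_cases c <;> simp [lam, g0]

end Cfsg.Agent.Helper9.SchM23
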