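import Mathlib
import Cfsg.Agent.Helper27.M23Out
import Cfsg.Agent.Helper9.SchM23.Inst
import Cfsg.Agent.Helper19.Schur.Table
import Cfsg.Agent.Helper19.Schur.GolayTbl

/-! The Schur multiplier of `M₂₃` is trivial: relators in the concrete group (helper27's point
stabiliser `G1` of `M₂₄`, generated by `x` of order 23 and a conjugate `t` of the involution `y`),
and the final statement. -/

set_option autoImplicit false
set_option linter.all false
set_option maxRecDepth 100000
set_option maxHeartbeats 0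

namespace Cfsg.Agent.Helper9.SchM23

open Cfsg Cfsg.Agent.Helper27 Cfsg.Agent.Helper19.TCS Cfsg.Agent.Helper19.TCL
  Cfsg.Agent.Helper19.Schur

/-- the word (in `x`, `y`) of the new involution `t`, a conjugate of `y`. -/
def tword : List ℕ := [2, 0, 2, 1, 2, 1, 2, 1, 1, 1, 1, 1, 2, 0, 0, 0, 0, 0, 2, 0, 2, 0, 2, 1, 2]

/-- the word (in `x`, `t`) giving back `y`. -/
def yword : List ℕ := [1, 1, 2, 1, 1, 1, 1, 1, 1, 2, 1, 1, 1, 1, 2, 1, 1, 2, 0, 0, 0, 0, 2, 0, 0]

/-- the table of `t`. -/
def tT : List ℕ := [0, 19, 23, 3, 8, 22, 6, 7, 4, 9, 17, 15, 12, 13, 18, 11, 20, 10, 14, 1, 16, 21, 5, 2]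

theorem m23yP_inv_rep : Represents (m23yP⁻¹ : Equiv.Perm GolayPt) m23Y :=
  represents_inv_of_compT m23yP_rep m23Y_valid (by decide +kernel)

/-- the new involution, as a permutation. -/
noncomputable def m23tP : Equiv.Perm GolayPt := prodw (gc2 m23xP m23yP) tword

theorem tT_eq : prodT m23X m23Xi m23Y m23Y tword = tT := by decide +kernel

theorem m23tP_rep : Represents m23tP tT := by
  have h := represents_prodw m23xP_rep m23xP_inv_rep m23yP_rep m23yP_inv_rep tword
  rw [tT_eq] at h
  exact h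

theorem m23tP_inv_rep : Represents (m23tP⁻¹ : Equiv.Perm GolayPt) tT :=
  represents_inv_of_compT m23tP_rep (by decide +kernel) (by decide +kernel)

/-- the new involution in `G1`. -/
noncomputable def m23tG : ↥G1 := prodw (gc2 m23xG m23yG) tword

theorem m23tG_coe : ((m23tG : ↥G1) : Equiv.Perm GolayPt) = m23tP := by
  have h := map_prodw G1.subtype m23xG m23yG tword
  rw [Subgroup.coe_subtype] at h
  exact h

/-! ### The relators hold in `G1` -/

theorem relsT_ok : rels.all (fun w => prodT m23X m23Xi tT tT w == idT) = true := by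
  decide +kernel

theorem hrelP : ∀ w ∈ rels, prodw (gc2 m23xP m23tP) w = 1 := by
  intro w hw
  have h := List.all_eq_true.mp relsT_ok w hw
  have h1 := represents_prodw m23xP_rep m23xP_inv_rep m23tP_rep m23tP_inv_rep w
  rw [beq_iff_eq.mp h] at h1
  exact represents_inj h1 represents_one

theorem map_xt (w : List ℕ) :
    ((prodw (gc2 m23xG m23tG) w : ↥G1) : Equiv.Perm GolayPt) = prodw (gc2 m23xP m23tP) w := by
  have h := map_prodw G1.subtype m23xG m23tG w
  rw [Subgroup.coe_subtype] at h
  rw [h, m23tG_coe]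
  rfl

theorem hrelG : ∀ w ∈ rels, prodw (gc2 m23xG m23tG) w = 1 := by
  intro w hw
  apply Subtype.ext
  rw [map_xt]
  exact hrelP w hw

/-! ### `x` and `t` generate `G1` -/

theorem yword_ok : prodT m23X m23Xi tT tT yword = m23Y := by decide +kernel

theorem m23yG_eq : prodw (gc2 m23xG m23tG) yword = m23yG := by
  apply Subtype.ext
  rw [map_xt]
  have h1 := represents_prodw m23xP_rep m23xP_inv_rep m23tP_rep m23tP_inv_rep yword
  rw [yword_ok] at h1
  exact represents_inj h1 m23yP_rep

theorem G1_closure_xt : Subgroup.closure ({m23xG, m23tG} : Set ↥G1) = ⊤ := by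
  rw [eq_top_iff, ← G1_closure, Subgroup.closure_le]
  intro g hg
  rcases hg with rfl | hg
  · exact Subgroup.subset_closure (by simp)
  · rw [Set.mem_singleton_iff] at hg
    rw [hg, ← m23yG_eq]
    exact prodw_mem_closure m23xG m23tG yword

/-! ### The final statement -/

theorem schur_G : Cfsg.HasCyclicSchurMultiplier ↥G1 1 := by
  have hcard : Nat.card ↥G1 = 10200960 := card_fix24_1
  haveI : Finite ↥G1 := Nat.finite_of_card_ne_zero (by rw [hcard]; norm_num)
  have hT1' : ∀ (Δ : Type) [Group Δ] (a b : Δ), Subgroup.closure {a, b} = (⊤ : Subgroup Δ) →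
      (∀ w ∈ rels, prodw (gc2 a b) w = 1) → Finite Δ ∧ Nat.card Δ ≤ Nat.card ↥G1 := by
    intro Δ _ a b h1 h2
    rw [hcard]
    exact hT1 Δ a b h1 h2
  refine ⟨?_, ?_⟩
  · exact exists_stem_trivial ↥G1
  · exact exists_surjective_of_stem m23xG m23tG G1_closure_xt rels 8 (by decide) hrelG hT1' 6 lam hT2
      e1 e2 he1 he2 c1 c2 g0 1 hc1 hc2 hg0 hL1 hL2

theorem schur_M23 : Cfsg.HasCyclicSchurMultiplier ↥Cfsg.Spor.M23 1 := by
  obtain ⟨e⟩ := nonempty_sporM23_equiv_G1
  exact hasSchurMultiplier_of_mulEquiv e.symm schur_G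

end Cfsg.Agent.Helper9.SchM23
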